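import Groth.Agent.Sga4h.H918.Gen
import Groth.Agent.Sga5.H835.InvRes

/-!
# Characters of sheaves which are constant on a connected torsor

* `exists_isGen`: a sheaf which is constant of rank one on `T` has a free generator over `T`;
* `exists_smul_eq`: over a connected `T` every section is a multiple of a free generator;
* `exists_char`: if a group acts on the connected étale scheme `T` and `L` has a free generator over `T`, then
  `HasGen L T act θ` for a character `θ`.
-/

set_option autoImplicit false
universe u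

open CategoryTheory CategoryTheory.Limits AlgebraicGeometry Opposite

namespace Groth.Agent.Sga4h.H768.ConnGen

open Groth.Agent.Etbase Groth.Agent.Etcore Groth.Agent.EtpbcA Groth.Agent.Etcore.LVan
open Groth.Agent.Sga4h.H918.Gen

variable {Λ : Type (u + 1)} [CommRing Λ] {X : Scheme.{u}} {L : EtModW.Mod Λ X} {T : X.Etale}

/-- The étale scheme `T` as the final object of its own étale site. -/
noncomputable def selfMap (T : X.Etale) : T ⟶ (EtShriek.compEtale (show T.left ⟶ X from T.hom)).obj
    (EtCoh.top (show Scheme.{u} from T.left)) :=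
  MorphismProperty.Over.homMk (A := T) (B := (EtShriek.compEtale (show T.left ⟶ X from T.hom)).obj
    (EtCoh.top (show Scheme.{u} from T.left))) (𝟙 (show Scheme.{u} from T.left)) (by
      change 𝟙 (show Scheme.{u} from T.left) ≫ 𝟙 (show Scheme.{u} from T.left) ≫ _ = _
      rw [Category.id_comp, Category.id_comp]
      rfl)

theorem exists_isGen (e : (EtModW.pull Λ (show T.left ⟶ X from T.hom)).obj L ≅
    EtModW.constMod Λ (show Scheme.{u} from T.left) Λ) : ∃ s : EtModW.sect Λ L T, IsGen L s := by
  have : Etale (show T.left ⟶ X from T.hom) := T.prop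
  obtain ⟨φ, hφ⟩ := Groth.Agent.Sga5.H835.InvRes.exists_of_res_iso (F := L) (show T.left ⟶ X from T.hom)
    ((Groth.Agent.Sga4h.BidEtSh.pullIsoResM Λ (show T.left ⟶ X from T.hom)).symm.app L ≪≫ e)
  have h1 : sMap L (φ 1) = φ := by
    ext
    simp
  have h2 : IsGen L (φ 1) := by
    intro y
    rw [h1]
    exact hφ y
  exact ⟨res L (selfMap T) (φ 1), h2.res _⟩

theorem exists_smul_eq [ConnectedSpace (show Scheme.{u} from T.left)] {s : EtModW.sect Λ L T} (hs : IsGen L s)
    (t : EtModW.sect Λ L T) : ∃ r : Λ, t = r • s := by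
  let U : Λ → Set (show Scheme.{u} from T.left) := fun r => {y | Van L (t - r • s) y}
  have hU : ∀ r, IsOpen (U r) := fun r => isOpen_van _
  have hex : ∀ y, ∃ r, y ∈ U r := by
    intro y
    obtain ⟨r, hr⟩ := (hs y).2 T (𝟙 T) y rfl t
    refine ⟨r, ?_⟩
    rw [res_id, LinearMap.toSpanSingleton_apply] at hr
    exact hr
  have huniq : ∀ y r r', y ∈ U r → y ∈ U r' → r = r' := by
    intro y r r' h h'
    have h1 : Van L (r • s - r' • s) y := (Van.symm h).trans h'
    rw [← sub_smul] at h1
    rw [← sub_eq_zero]
    apply (hs y).1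
    rw [LinearMap.toSpanSingleton_apply]
    exact h1
  obtain ⟨y₀⟩ := (inferInstance : Nonempty (show Scheme.{u} from T.left))
  obtain ⟨r, hr⟩ := hex y₀
  have hcl : IsClosed (U r) := by
    rw [← isOpen_compl_iff]
    have : (U r)ᶜ = ⋃ r' : {r' : Λ // r' ≠ r}, U r' := by
      ext y
      rw [Set.mem_iUnion]
      constructor
      · intro h
        obtain ⟨r', hr'⟩ := hex y
        exact ⟨⟨r', fun e => h (e ▸ hr')⟩, hr'⟩
      · rintro ⟨⟨r', hr'⟩, h⟩ h2
        exact hr' (huniq y _ _ h h2)
    rw [this]
    exact isOpen_iUnion fun r' => hU r'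
  have huniv : U r = Set.univ := (isClopen_iff.1 ⟨hcl, hU r⟩).resolve_left (fun h => by
    rw [h] at hr
    exact hr)
  refine ⟨r, ?_⟩
  rw [← sub_eq_zero]
  apply eq_zero_of_van
  intro y
  have : y ∈ U r := by rw [huniv]; trivial
  exact this

theorem smul_inj {s : EtModW.sect Λ L T} (hs : IsGen L s) (y : T.left) {r r' : Λ} (h : r • s = r' • s) : r = r' := by
  rw [← sub_eq_zero]
  apply (hs y).1
  rw [LinearMap.toSpanSingleton_apply, sub_smul, h, sub_self]
  exact Van.zero _

/-- The character of a sheaf with a free generator over a connected étale scheme with an action. -/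
theorem exists_char' [ConnectedSpace (show Scheme.{u} from T.left)] {G : Type*} [Group G] (act : G → (T ⟶ T))
    (h1 : act 1 = 𝟙 T) (hmul : ∀ g h, act (g * h) = act g ≫ act h) {s : EtModW.sect Λ L T} (hs : IsGen L s) :
    ∃ θ : G →* Λˣ, ∀ g, res L (act g) s = (θ g : Λ) • s := by
  choose θ hθ using fun g => exists_smul_eq hs (res L (act g) s)
  obtain ⟨y⟩ := (inferInstance : Nonempty (show Scheme.{u} from T.left))
  let φ : G →* Λ :=
    { toFun := θ
      map_one' := by
        apply smul_inj hs y
        rw [← hθ, h1, res_id, one_smul]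
      map_mul' := by
        intro g h
        apply smul_inj hs y
        rw [← hθ, hmul, res_comp, hθ h, map_smul, hθ g, smul_smul, mul_comm] }
  exact ⟨φ.toHomUnits, hθ⟩

/-- The character of a sheaf which is constant on a connected étale scheme with an action. -/
theorem exists_char [ConnectedSpace (show Scheme.{u} from T.left)] {G : Type*} [Group G] (act : G → (T ⟶ T))
    (h1 : act 1 = 𝟙 T) (hmul : ∀ g h, act (g * h) = act g ≫ act h)
    (e : Nonempty ((EtModW.pull Λ (show T.left ⟶ X from T.hom)).obj L ≅
      EtModW.constMod Λ (show Scheme.{u} from T.left) Λ)) :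
    ∃ θ : G →* Λˣ, HasGen L T act (fun g => (θ g : Λ)) := by
  obtain ⟨s, hs⟩ := exists_isGen e.some
  obtain ⟨θ, hθ⟩ := exists_char' act h1 hmul hs
  exact ⟨θ, s, hs, hθ⟩

end Groth.Agent.Sga4h.H768.ConnGen
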