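import Groth.Agent.Sga4h.H768.SigHalf
import Mathlib.AlgebraicGeometry.Morphisms.FiniteType
import Mathlib.AlgebraicGeometry.Morphisms.Separated

/-!
# The Jacobi hypersurface in the torus

`sT K N = 1 + ∑ x_i` in the coordinate ring of the torus; `iJ : Spec (JacAlg K N) ⟶ Spec (TorAlg K N)`,
`oJ : D(sT) ⟶ Spec (TorAlg K N)`.
-/

set_option autoImplicit false

universe u

open CategoryTheory CategoryTheory.Limits AlgebraicGeometry
open scoped BigOperators Polynomial

namespace Groth.Agent.Sga4h.H768.JacHalf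

open Groth.Agent.Sga4h.H127 Groth.Agent.Sga4h.H768.SigHalf
open Groth.Agent.Sga4h.H931.KumDom (JacAlg xc)

variable (K : Type u) [CommRing K] (N : ℕ)

/-- The function `1 + ∑ x_i` on the torus. -/
noncomputable abbrev sT : TorAlg K N :=
  algebraMap (MvPolynomial (Fin N) K) (TorAlg K N) (1 + ∑ i : Fin N, MvPolynomial.X i)

theorem sp_sT : (sp (sT K N) : Γ(Spec (CommRingCat.of (TorAlg K N)), ⊤)) = 1 + ∑ i, sp (tc K N i) := by
  unfold sT
  rw [map_add, map_one, map_sum]
  change (Scheme.ΓSpecIso (CommRingCat.of (TorAlg K N))).inv.hom _ = _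
  rw [map_add, map_one, map_sum]

/-- The inclusion of the Jacobi hypersurface. -/
noncomputable abbrev iJ : Spec (CommRingCat.of (JacAlg K N)) ⟶ Spec (CommRingCat.of (TorAlg K N)) := iS (sT K N)

theorem iJ_str : iJ K N ≫ strS K (TorAlg K N) = strS K (JacAlg K N) := by
  rw [← Spec.map_comp, ← CommRingCat.ofHom_comp]

theorem iJ_tc (i : Fin N) : (iJ K N).appTop.hom (sp (tc K N i)) = sp (xc K N i) := by
  rw [appTop_sp]
  rfl

theorem iJ_sT : (iJ K N).appTop.hom (1 + ∑ i, sp (tc K N i)) = 0 := by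
  rw [← sp_sT]
  exact iS_app (sT K N)

theorem strS_comp (R R' : Type u) [CommRing R] [Algebra K R] [CommRing R'] [Algebra K R'] [Algebra R R']
    [IsScalarTower K R R'] : Spec.map (CommRingCat.ofHom (algebraMap R R')) ≫ strS K R = strS K R' := by
  rw [← Spec.map_comp, ← CommRingCat.ofHom_comp, ← IsScalarTower.algebraMap_eq]

instance locallyOfFiniteType_strS (R : Type u) [CommRing R] [Algebra K R] [h : Algebra.FiniteType K R] :
    LocallyOfFiniteType (strS K R) := by
  rw [HasRingHomProperty.Spec_iff (P := @LocallyOfFiniteType)]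
  exact (RingHom.finiteType_algebraMap (A := K) (B := R)).2 h

end Groth.Agent.Sga4h.H768.JacHalf
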