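import Groth.Agent.Sga4h.H768.KumEt
import Groth.Agent.Sga4h.H931.KumDom

/-!
# Base change of the Jacobi hypersurface and of the multi-Kummer cover

* `isPullback_mapK`: base change of `Spec (LangSh.KumFamAlg R m u)` along any `R →+* R'`.
* `isPullback_jac`, `extIso`: `Spec (JacAlg k n) ×_k K = Spec (JacAlg K n)`.
* `isPullback_ext`: the multi-Kummer cover of `JacAlg K n` as a base change along `FinFr.extπ`.
-/

set_option autoImplicit false
universe u
open CategoryTheory CategoryTheory.Limits AlgebraicGeometry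
open MvPolynomial

namespace Groth.Agent.Sga4h.H768.KumBc

open Groth.Agent.Sga4h.H768.KumEt Groth.Agent.Sga4h.H931.KumDom

section Kum

variable {R R' : Type u} [CommRing R] [CommRing R'] {N : ℕ} (m : ℕ) {u : Fin N → R} {u' : Fin N → R'}
  (g : R →+* R') (h : ∀ i, g (u i) = u' i)

/-- base change map of multi-Kummer algebras -/
noncomputable def mapK : LangSh.KumFamAlg R m u →+* LangSh.KumFamAlg R' m u' :=
  lift ((algebraMap R' (LangSh.KumFamAlg R' m u')).comp g) (y m u')
    (fun i => by rw [y_pow, RingHom.comp_apply, h])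

theorem mapK_comp : (mapK m g h).comp (algebraMap R (LangSh.KumFamAlg R m u)) =
    (algebraMap R' (LangSh.KumFamAlg R' m u')).comp g :=
  lift_comp _ _ _

theorem mapK_algebraMap (r : R) : mapK m g h (algebraMap R (LangSh.KumFamAlg R m u) r) =
    algebraMap R' (LangSh.KumFamAlg R' m u') (g r) :=
  lift_algebraMap _ _ _ _

theorem mapK_y (i : Fin N) : mapK m g h (y m u i) = y m u' i :=
  lift_y _ _ _ _

theorem isPushout_mapK : IsPushout (CommRingCat.ofHom (algebraMap R (LangSh.KumFamAlg R m u)))
    (CommRingCat.ofHom g) (CommRingCat.ofHom (mapK m g h))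
    (CommRingCat.ofHom (algebraMap R' (LangSh.KumFamAlg R' m u'))) := by
  have hb : ∀ (s : PushoutCocone (CommRingCat.ofHom (algebraMap R (LangSh.KumFamAlg R m u)))
      (CommRingCat.ofHom g)) (i : Fin N), s.inl.hom (y m u i) ^ m = s.inr.hom (u' i) := by
    intro s i
    have hc := congrArg (fun φ => φ.hom (u i)) s.condition
    rw [← map_pow, y_pow, ← h i]
    exact hc
  refine ⟨⟨?_⟩, ⟨PushoutCocone.IsColimit.mk _
    (fun s => CommRingCat.ofHom (lift (B := s.pt) s.inr.hom (fun i => s.inl.hom (y m u i)) (hb s)))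
    ?_ ?_ ?_⟩⟩
  · rw [← CommRingCat.ofHom_comp, ← CommRingCat.ofHom_comp, mapK_comp]
  · intro s
    apply CommRingCat.hom_ext
    refine hom_ext ?_ ?_
    · ext r
      have hc := congrArg (fun φ => φ.hom r) s.condition
      change lift _ _ (hb s) (mapK m g h (algebraMap R (LangSh.KumFamAlg R m u) r)) =
        s.inl.hom (algebraMap R (LangSh.KumFamAlg R m u) r)
      rw [mapK_algebraMap, lift_algebraMap]
      exact hc.symm
    · intro i
      change lift _ _ (hb s) (mapK m g h (y m u i)) = s.inl.hom (y m u i)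
      rw [mapK_y, lift_y]
  · intro s
    apply CommRingCat.hom_ext
    exact lift_comp _ _ (hb s)
  · intro s f hl hr
    apply CommRingCat.hom_ext
    refine hom_ext ?_ ?_
    · refine Eq.trans ?_ (lift_comp _ _ (hb s)).symm
      exact congrArg CommRingCat.Hom.hom hr
    · intro i
      have h1 := congrArg (fun φ => φ.hom (y m u i)) hl
      refine Eq.trans ?_ (lift_y _ _ (hb s) _).symm
      rw [← mapK_y m g h i]
      exact h1

/-- the multi-Kummer cover commutes with base change -/
theorem isPullback_mapK : IsPullback (Spec.map (CommRingCat.ofHom (mapK m g h)))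
    (LangSh.cover R' (LangSh.KumFamAlg R' m u')) (LangSh.cover R (LangSh.KumFamAlg R m u))
    (Spec.map (CommRingCat.ofHom g)) :=
  isPullback_SpecMap_of_isPushout _ _ _ _ (isPushout_mapK m g h)

end Kum

section Jac

variable {F F' : Type u} [CommRing F] [CommRing F'] (g : F →+* F') (n : ℕ)

/-- base change map of the Jacobi algebras -/
noncomputable def jacMap : JacAlg F n →+* JacAlg F' n :=
  jacLift (((algebraMap (MvPolynomial (Fin n) F') (JacAlg F' n))).comp (MvPolynomial.map g))
    (fun i => by
      rw [RingHom.comp_apply, MvPolynomial.map_X]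
      exact isUnit_xc i)
    (by
      rw [map_one_add_sum]
      simp only [RingHom.comp_apply, MvPolynomial.map_X]
      exact one_add_sum_xc)

theorem jacMap_xc (i : Fin n) : jacMap g n (xc F n i) = xc F' n i := by
  unfold jacMap xc
  rw [jacLift_algebraMap, RingHom.comp_apply, MvPolynomial.map_X]

theorem algebraMap_eq (a : F) : algebraMap F (JacAlg F n) a =
    algebraMap (MvPolynomial (Fin n) F) (JacAlg F n) (C a) := by
  rw [IsScalarTower.algebraMap_apply F (MvPolynomial (Fin n) F) (JacAlg F n)]
  rfl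

theorem jacMap_algebraMap (a : F) : jacMap g n (algebraMap F (JacAlg F n) a) =
    algebraMap F' (JacAlg F' n) (g a) := by
  rw [algebraMap_eq, algebraMap_eq]
  unfold jacMap
  rw [jacLift_algebraMap, RingHom.comp_apply, MvPolynomial.map_C]

theorem jacMap_comp : (jacMap g n).comp (algebraMap F (JacAlg F n)) =
    (algebraMap F' (JacAlg F' n)).comp g :=
  RingHom.ext fun a => jacMap_algebraMap g n a

/-- ring maps out of `JacAlg` agreeing on constants and coordinates are equal -/
theorem jac_ext {B : Type*} [CommRing B] {f f' : JacAlg F n →+* B}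
    (h1 : f.comp (algebraMap F (JacAlg F n)) = f'.comp (algebraMap F (JacAlg F n)))
    (h2 : ∀ i, f (xc F n i) = f' (xc F n i)) : f = f' := by
  refine jac_ringHom_ext ?_
  refine MvPolynomial.ringHom_ext' ?_ h2
  ext a
  have := DFunLike.congr_fun h1 a
  simp only [RingHom.comp_apply] at this
  rw [algebraMap_eq] at this
  exact this

/-- ring map out of `JacAlg` with given coordinates -/
noncomputable def jacOf {B : Type*} [CommRing B] (b : F →+* B) (v : Fin n → B) (hv : ∀ i, IsUnit (v i))
    (h : 1 + ∑ i, v i = 0) : JacAlg F n →+* B :=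
  jacLift (eval₂Hom b v) (fun i => by rw [eval₂Hom_X']; exact hv i)
    (by rw [map_one_add_sum]; simp only [eval₂Hom_X']; exact h)

theorem jacOf_xc {B : Type*} [CommRing B] (b : F →+* B) (v : Fin n → B) (hv : ∀ i, IsUnit (v i))
    (h : 1 + ∑ i, v i = 0) (i : Fin n) : jacOf n b v hv h (xc F n i) = v i := by
  unfold jacOf xc
  rw [jacLift_algebraMap, eval₂Hom_X']

theorem jacOf_algebraMap {B : Type*} [CommRing B] (b : F →+* B) (v : Fin n → B) (hv : ∀ i, IsUnit (v i))
    (h : 1 + ∑ i, v i = 0) (a : F) : jacOf n b v hv h (algebraMap F (JacAlg F n) a) = b a := by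
  rw [algebraMap_eq]
  unfold jacOf
  rw [jacLift_algebraMap, eval₂Hom_C]

theorem jacOf_comp {B : Type*} [CommRing B] (b : F →+* B) (v : Fin n → B) (hv : ∀ i, IsUnit (v i))
    (h : 1 + ∑ i, v i = 0) : (jacOf n b v hv h).comp (algebraMap F (JacAlg F n)) = b :=
  RingHom.ext fun a => jacOf_algebraMap n b v hv h a

theorem isPushout_jac : IsPushout (CommRingCat.ofHom (algebraMap F (JacAlg F n)))
    (CommRingCat.ofHom g) (CommRingCat.ofHom (jacMap g n))
    (CommRingCat.ofHom (algebraMap F' (JacAlg F' n))) := by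
  have hv : ∀ (s : PushoutCocone (CommRingCat.ofHom (algebraMap F (JacAlg F n)))
      (CommRingCat.ofHom g)) (i : Fin n), IsUnit (s.inl.hom (xc F n i)) :=
    fun s i => (isUnit_xc i).map s.inl.hom
  have hb : ∀ (s : PushoutCocone (CommRingCat.ofHom (algebraMap F (JacAlg F n)))
      (CommRingCat.ofHom g)), 1 + ∑ i, s.inl.hom (xc F n i) = 0 := by
    intro s
    have := congrArg s.inl.hom (one_add_sum_xc (F := F) (n := n))
    rw [map_zero] at this
    rw [← this]
    exact (map_one_add_sum s.inl.hom _).symm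
  refine ⟨⟨?_⟩, ⟨PushoutCocone.IsColimit.mk _
    (fun s => CommRingCat.ofHom (jacOf n (B := s.pt) s.inr.hom (fun i => s.inl.hom (xc F n i))
      (hv s) (hb s))) ?_ ?_ ?_⟩⟩
  · rw [← CommRingCat.ofHom_comp, ← CommRingCat.ofHom_comp, jacMap_comp]
  · intro s
    apply CommRingCat.hom_ext
    refine jac_ext n ?_ ?_
    · ext r
      have hc := congrArg (fun φ => φ.hom r) s.condition
      change jacOf n _ _ (hv s) (hb s) (jacMap g n (algebraMap F (JacAlg F n) r)) =
        s.inl.hom (algebraMap F (JacAlg F n) r)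
      rw [jacMap_algebraMap, jacOf_algebraMap]
      exact hc.symm
    · intro i
      change jacOf n _ _ (hv s) (hb s) (jacMap g n (xc F n i)) = s.inl.hom (xc F n i)
      rw [jacMap_xc, jacOf_xc]
  · intro s
    apply CommRingCat.hom_ext
    exact jacOf_comp n _ _ (hv s) (hb s)
  · intro s f hl hr
    apply CommRingCat.hom_ext
    refine jac_ext n ?_ ?_
    · refine Eq.trans ?_ (jacOf_comp n _ _ (hv s) (hb s)).symm
      exact congrArg CommRingCat.Hom.hom hr
    · intro i
      have h1 := congrArg (fun φ => φ.hom (xc F n i)) hl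
      refine Eq.trans ?_ (jacOf_xc n _ _ (hv s) (hb s) _).symm
      rw [← jacMap_xc g n i]
      exact h1

/-- the Jacobi hypersurface commutes with base change -/
theorem isPullback_jac : IsPullback (Spec.map (CommRingCat.ofHom (jacMap g n)))
    (Spec.map (CommRingCat.ofHom (algebraMap F' (JacAlg F' n))))
    (Spec.map (CommRingCat.ofHom (algebraMap F (JacAlg F n)))) (Spec.map (CommRingCat.ofHom g)) :=
  isPullback_SpecMap_of_isPushout _ _ _ _ (isPushout_jac g n)

end Jac

section Ext

variable (k K : Type u) [Field k] [Field K] [Algebra k K] (n : ℕ)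

/-- `Spec (JacAlg k n) ×_k K = Spec (JacAlg K n)` -/
noncomputable def extIso : FinFr.ext K (Spec.map (CommRingCat.ofHom (algebraMap k (JacAlg k n)))) ≅
    Spec (CommRingCat.of (JacAlg K n)) :=
  (isPullback_jac (algebraMap k K) n).isoPullback.symm

@[reassoc]
theorem extIso_hom_π : (extIso k K n).hom ≫ Spec.map (CommRingCat.ofHom (jacMap (algebraMap k K) n)) =
    FinFr.extπ K (Spec.map (CommRingCat.ofHom (algebraMap k (JacAlg k n)))) :=
  (isPullback_jac (algebraMap k K) n).isoPullback_inv_fst

@[reassoc]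
theorem extIso_hom_str : (extIso k K n).hom ≫ Spec.map (CommRingCat.ofHom (algebraMap K (JacAlg K n))) =
    FinFr.extStr K (Spec.map (CommRingCat.ofHom (algebraMap k (JacAlg k n)))) :=
  (isPullback_jac (algebraMap k K) n).isoPullback_inv_snd

@[reassoc]
theorem extIso_inv_π : (extIso k K n).inv ≫
    FinFr.extπ K (Spec.map (CommRingCat.ofHom (algebraMap k (JacAlg k n)))) =
    Spec.map (CommRingCat.ofHom (jacMap (algebraMap k K) n)) :=
  (isPullback_jac (algebraMap k K) n).isoPullback_hom_fst

@[reassoc]
theorem extIso_inv_str : (extIso k K n).inv ≫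
    FinFr.extStr K (Spec.map (CommRingCat.ofHom (algebraMap k (JacAlg k n)))) =
    Spec.map (CommRingCat.ofHom (algebraMap K (JacAlg K n))) :=
  (isPullback_jac (algebraMap k K) n).isoPullback_hom_snd

variable (m : ℕ) (u : Fin n → JacAlg k n) (hu : ∀ i, u i = xc k n i)

theorem jacMap_u (hu : ∀ i, u i = xc k n i) (i : Fin n) :
    jacMap (algebraMap k K) n (u i) = xc K n i := by
  rw [hu, jacMap_xc]

/-- The multi-Kummer cover of `JacAlg K n` is the base change of the one of `JacAlg k n`. -/
theorem isPullback_ext (hu : ∀ i, u i = xc k n i) :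
    IsPullback (Spec.map (CommRingCat.ofHom (mapK m (jacMap (algebraMap k K) n) (jacMap_u k K n u hu))))
      (LangSh.cover (JacAlg K n) (LangSh.KumFamAlg (JacAlg K n) m (xc K n)) ≫ (extIso k K n).inv)
      (LangSh.cover (JacAlg k n) (LangSh.KumFamAlg (JacAlg k n) m u))
      (FinFr.extπ K (Spec.map (CommRingCat.ofHom (algebraMap k (JacAlg k n))))) := by
  refine IsPullback.of_iso (isPullback_mapK m (jacMap (algebraMap k K) n) (jacMap_u k K n u hu))
    (Iso.refl _) (Iso.refl _) (extIso k K n).symm (Iso.refl _) ?_ ?_ ?_ ?_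
  · simp
  · simp
  · simp
  · simp [extIso_inv_π]

end Ext

end Groth.Agent.Sga4h.H768.KumBc
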