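import Groth.Agent.Sga4h.H768.KumDec
import Groth.Agent.Sga4h.H768.ConnGen
import Groth.Agent.Sga4h.H768.KumBc
import Groth.Agent.Sga4h.H299.LamMod
import Groth.Agent.Sga4h.H127.RepInst

/-!
# Classification of the multi-Kummer sheaves on the Jacobi variety over `K`

* `nonempty_pull_iso`: a sheaf on `Spec R₀` which becomes constant on the multi-Kummer cover of `R₀` becomes constant on the
  multi-Kummer cover of `R` for `g : R₀ → R`.
* `exists_tens`: if the multi-Kummer cover of `R` is connected, the sheaf on `Spec R` is `⊗_i F_{θ_i}(0, u_i)`.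
* `exists_jac`: the case of the Jacobi variety, `N ≥ 2`; `const_jac`: `N ≤ 1`.
-/

set_option autoImplicit false

universe u

open CategoryTheory CategoryTheory.Limits AlgebraicGeometry Opposite

namespace Groth.Agent.Sga4h.H768.G3Core

open Groth.Agent.Sga4h.H918 Groth.Agent.Sga4h.H918.Gen Groth.Agent.Sga4h.H918.Ask Groth.Agent.Sga4h.H768.KumTor
open Groth.Agent.Sga4h.H768.KumDec Groth.Agent.Sga4h.H299.LamMod Groth.Agent.Sga4h.H768.KumBc
open Groth.Agent.Sga4h.H931.KumDom (JacAlg xc)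

section Gen

variable {Λ : Type} [CommRing Λ] {R₀ R : Type u} [CommRing R₀] [CommRing R] (g : R₀ →+* R) {N : ℕ}

/-- Base change of the constancy on the multi-Kummer cover. -/
theorem nonempty_pull_iso (m : ℕ) {u₀ : Fin N → R₀} {u : Fin N → R} (h : ∀ i, g (u₀ i) = u i)
    {L : EtLam.Sheaf Λ (Spec (CommRingCat.of R₀))}
    (hL : LangSh.IsConstOn (LangSh.cover R₀ (LangSh.KumFamAlg R₀ m u₀)) L)
    {Z : Scheme.{u}} (s : Z ⟶ Spec (CommRingCat.of (LangSh.KumFamAlg R m u))) (π : Z ⟶ Spec (CommRingCat.of R))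
    (hs : s ≫ LangSh.cover R (LangSh.KumFamAlg R m u) = π) :
    Nonempty ((EtModW.pull (UL.{u} Λ) π).obj
      ((EtModW.pull (UL.{u} Λ) (Spec.map (CommRingCat.ofHom g))).obj (toMod L)) ≅
        EtModW.constMod (UL.{u} Λ) Z (UL.{u} Λ)) := by
  obtain ⟨e⟩ := nonempty_of_isConstOn _ L hL
  have w : π ≫ Spec.map (CommRingCat.ofHom g) = (s ≫ Spec.map (CommRingCat.ofHom (mapK m g h))) ≫
      LangSh.cover R₀ (LangSh.KumFamAlg R₀ m u₀) := by
    rw [← hs, Category.assoc, Category.assoc, (isPullback_mapK m g h).w]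
  exact ⟨(Etcore.LPullComp.pullComp (UL.{u} Λ) π (Spec.map (CommRingCat.ofHom g))).app _ ≪≫
    (Etcore.LPullComp.pullCongr (UL.{u} Λ) w).app _ ≪≫
    ((Etcore.LPullComp.pullComp (UL.{u} Λ) (s ≫ Spec.map (CommRingCat.ofHom (mapK m g h)))
      (LangSh.cover R₀ (LangSh.KumFamAlg R₀ m u₀))).app _).symm ≪≫
    (EtModW.pull (UL.{u} Λ) (s ≫ Spec.map (CommRingCat.ofHom (mapK m g h)))).mapIso e ≪≫
    FixPt.pullUnit _⟩

/-- If the `u_i` have roots, the sheaf is constant. -/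
theorem nonempty_iso_const (m : ℕ) {u₀ : Fin N → R₀} {u : Fin N → R} (h : ∀ i, g (u₀ i) = u i)
    {L : EtLam.Sheaf Λ (Spec (CommRingCat.of R₀))}
    (hL : LangSh.IsConstOn (LangSh.cover R₀ (LangSh.KumFamAlg R₀ m u₀)) L) (b : Fin N → R)
    (hb : ∀ i, b i ^ m = u i) :
    Nonempty ((EtModW.pull (UL.{u} Λ) (Spec.map (CommRingCat.ofHom g))).obj (toMod L) ≅
      EtModW.constMod (UL.{u} Λ) (Spec (CommRingCat.of R)) (UL.{u} Λ)) := by
  have w : Spec.map (CommRingCat.ofHom (KumEt.lift (m := m) (u := u) (RingHom.id R) b hb)) ≫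
      LangSh.cover R (LangSh.KumFamAlg R m u) = 𝟙 _ := by
    rw [← Spec.map_comp, ← CommRingCat.ofHom_comp, KumEt.lift_comp]
    exact Spec.map_id _
  obtain ⟨e⟩ := nonempty_pull_iso g m h hL _ _ w
  exact ⟨((Etcore.LPullComp.pullId (UL.{u} Λ) _).app _).symm ≪≫ e⟩

variable {k : Type*} [Field k] [Fintype k]

omit [Fintype k] in
theorem comp_eq {Λ' : Type (u + 1)} [CommRing Λ'] (θ : (Fin N → kˣ) →* Λ'ˣ) (i : Fin N) :
    (comp θ i : GG k →* Λ'ˣ) = MonoidHom.coprod (1 : Multiplicative k →* Λ'ˣ) (θ.comp (MonoidHom.mulSingle (fun _ => kˣ) i)) := by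
  ext g
  simp [comp]

/-- If the multi-Kummer cover is connected, the sheaf is a product of Kummer sheaves. -/
theorem exists_tens {u₀ : Fin N → R₀} {u : Fin N → R} (h : ∀ i, g (u₀ i) = u i) (hu : ∀ i, IsUnit (u i))
    {L : EtLam.Sheaf Λ (Spec (CommRingCat.of R₀))}
    (hL : LangSh.IsConstOn (LangSh.cover R₀ (LangSh.KumFamAlg R₀ (Fintype.card k - 1) u₀)) L)
    [ConnectedSpace (Spec (CommRingCat.of (LangSh.KumFamAlg R (Fintype.card k - 1) u)))]
    (ρ : k →+* Γ(Spec (CommRingCat.of R), ⊤)) :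
    ∃ θ : Fin N → (kˣ →* (UL.{u} Λ)ˣ), Nonempty ((EtModW.pull (UL.{u} Λ) (Spec.map (CommRingCat.ofHom g))).obj
      (toMod L) ≅ tensFin N fun i => Lang.F ρ (MonoidHom.coprod (1 : Multiplicative k →* (UL.{u} Λ)ˣ) (θ i)) 0
        (gl R (u i)) ((hu i).map _)) := by
  let T := specTor ρ u hu
  have e := nonempty_pull_iso g (Fintype.card k - 1) h hL (𝟙 _)
    (LangSh.cover R (LangSh.KumFamAlg R (Fintype.card k - 1) u)) (Category.id_comp _)
  have : ConnectedSpace (show Scheme.{u} from T.T.left) :=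
    inferInstanceAs (ConnectedSpace (Spec (CommRingCat.of (LangSh.KumFamAlg R (Fintype.card k - 1) u))))
  obtain ⟨θ, hθ⟩ := ConnGen.exists_char (T := T.T) T.act T.act_one T.act_mul e
  refine ⟨fun i => θ.comp (MonoidHom.mulSingle (fun _ => kˣ) i), ?_⟩
  have h2 := nonempty_iso_tensFin T θ hθ
  simp only [comp_eq] at h2
  exact h2

end Gen

section Jac

variable {Λ : Type} [CommRing Λ] {k : Type u} [Field k] [Fintype k] {K : Type u} [Field K] [Algebra k K] {N : ℕ}

theorem natCast_ne (k K : Type u) [Field k] [Fintype k] [Field K] [Algebra k K] :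
    ((Fintype.card k - 1 : ℕ) : K) ≠ 0 := by
  have h0 : ((Fintype.card k : ℕ) : K) = 0 := cast_card_eq_zero (algebraMap k K)
  rw [Nat.cast_sub Fintype.card_pos, h0]
  simp

/-- **Classification on the Jacobi variety**, `N ≥ 2`. -/
theorem exists_jac (hN : 2 ≤ N) {L : EtLam.Sheaf Λ (Spec (CommRingCat.of (JacAlg k N)))}
    (hL : LangSh.IsConstOn (LangSh.cover (JacAlg k N)
      (LangSh.KumFamAlg (JacAlg k N) (Fintype.card k - 1) (xc k N))) L)
    (ρ : k →+* Γ(Spec (CommRingCat.of (JacAlg K N)), ⊤)) :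
    ∃ θ : Fin N → (kˣ →* (UL.{u} Λ)ˣ), Nonempty ((EtModW.pull (UL.{u} Λ)
      (Spec.map (CommRingCat.ofHom (jacMap (algebraMap k K) N)))).obj (toMod L) ≅
        tensFin N fun i => Lang.F ρ (MonoidHom.coprod (1 : Multiplicative k →* (UL.{u} Λ)ˣ) (θ i)) 0
          (gl (JacAlg K N) (xc K N i)) ((Groth.Agent.Sga4h.H931.KumDom.isUnit_xc i).map _)) := by
  have hd : IsDomain (LangSh.KumFamAlg (JacAlg K N) (Fintype.card k - 1) (xc K N)) :=
    Groth.Agent.Sga4h.H931.KumDom.isDomain_kf K (Fintype.card k - 1) N (natCast_ne k K) hN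
  have : ConnectedSpace (Spec (CommRingCat.of (LangSh.KumFamAlg (JacAlg K N) (Fintype.card k - 1) (xc K N)))) :=
    inferInstanceAs (ConnectedSpace (PrimeSpectrum (LangSh.KumFamAlg (JacAlg K N) (Fintype.card k - 1) (xc K N))))
  exact exists_tens (jacMap (algebraMap k K) N) (fun i => jacMap_xc (algebraMap k K) N i)
    (fun i => Groth.Agent.Sga4h.H931.KumDom.isUnit_xc i) hL ρ

/-- The case `N = 1`. -/
theorem const_jac [IsAlgClosed K] {L : EtLam.Sheaf Λ (Spec (CommRingCat.of (JacAlg k 1)))}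
    (hL : LangSh.IsConstOn (LangSh.cover (JacAlg k 1)
      (LangSh.KumFamAlg (JacAlg k 1) (Fintype.card k - 1) (xc k 1))) L) :
    Nonempty ((EtModW.pull (UL.{u} Λ) (Spec.map (CommRingCat.ofHom (jacMap (algebraMap k K) 1)))).obj (toMod L) ≅
      EtModW.constMod (UL.{u} Λ) (Spec (CommRingCat.of (JacAlg K 1))) (UL.{u} Λ)) := by
  obtain ⟨c, hc⟩ := IsAlgClosed.exists_pow_nat_eq (-1 : K) (Nat.sub_pos_of_lt (Fintype.one_lt_card (α := k)))
  refine nonempty_iso_const (jacMap (algebraMap k K) 1) (Fintype.card k - 1)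
    (fun i => jacMap_xc (algebraMap k K) 1 i) hL (fun _ => algebraMap K (JacAlg K 1) c) (fun i => ?_)
  have h1 := Groth.Agent.Sga4h.H931.KumDom.one_add_sum_xc (F := K) (n := 1)
  have h2 : ∑ i, xc K 1 i = xc K 1 i := Fintype.sum_subsingleton _ i
  have h3 : 1 + xc K 1 i = 0 := (congrArg (fun t => 1 + t) h2).symm.trans h1
  rw [← map_pow, hc, map_neg, map_one]
  exact neg_eq_of_add_eq_zero_right h3

end Jac

end Groth.Agent.Sga4h.H768.G3Core
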