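import Groth.Prelude.Def_LangSh
import Mathlib.RingTheory.Etale.Basic
import Mathlib.AlgebraicGeometry.Morphisms.Etale
import Mathlib.AlgebraicGeometry.Morphisms.Finite
import Mathlib.AlgebraicGeometry.Pullbacks
import Mathlib.RingTheory.Spectrum.Prime.Basic
import Mathlib.FieldTheory.IsAlgClosed.AlgebraicClosure

/-!
# The multi-Kummer cover is finite étale and surjective

`LangSh.KumFamAlg R m u = R[y_i] / (y_i ^ m - u_i)`, `m` and all `u_i` units of `R`.
-/

set_option autoImplicit false
universe u
open CategoryTheory CategoryTheory.Limits AlgebraicGeometry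
open MvPolynomial

namespace Groth.Agent.Sga4h.H768.KumEt

section Alg

variable {R : Type u} [CommRing R] {N : ℕ} (m : ℕ) (u : Fin N → R)

/-- the generators -/
noncomputable def y (i : Fin N) : LangSh.KumFamAlg R m u := Ideal.Quotient.mk _ (X i)

theorem y_pow (i : Fin N) : y m u i ^ m = algebraMap R (LangSh.KumFamAlg R m u) (u i) := by
  have h : algebraMap R (LangSh.KumFamAlg R m u) (u i) =
      Ideal.Quotient.mk (Ideal.span (Set.range fun i => (X i) ^ m - C (u i))) (C (u i)) := rfl
  rw [h, y, ← map_pow, ← sub_eq_zero, ← map_sub, Ideal.Quotient.eq_zero_iff_mem]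
  exact Ideal.subset_span ⟨i, rfl⟩

variable {m u}

/-- ring maps out of the multi-Kummer algebra -/
noncomputable def lift {B : Type*} [CommRing B] (g : R →+* B) (b : Fin N → B)
    (hb : ∀ i, b i ^ m = g (u i)) : LangSh.KumFamAlg R m u →+* B :=
  Ideal.Quotient.lift _ (eval₂Hom g b)
    (by
      intro a ha
      rw [← RingHom.mem_ker]
      revert a
      change Ideal.span _ ≤ _
      rw [Ideal.span_le]
      rintro _ ⟨i, rfl⟩
      rw [SetLike.mem_coe, RingHom.mem_ker, map_sub, map_pow, eval₂Hom_X', eval₂Hom_C, hb i, sub_self])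

@[simp] theorem lift_y {B : Type*} [CommRing B] (g : R →+* B) (b : Fin N → B)
    (hb : ∀ i, b i ^ m = g (u i)) (i : Fin N) : lift g b hb (y m u i) = b i := by
  unfold lift y
  rw [Ideal.Quotient.lift_mk, eval₂Hom_X']

@[simp] theorem lift_algebraMap {B : Type*} [CommRing B] (g : R →+* B) (b : Fin N → B)
    (hb : ∀ i, b i ^ m = g (u i)) (r : R) :
    lift g b hb (algebraMap R (LangSh.KumFamAlg R m u) r) = g r := by
  have h : algebraMap R (LangSh.KumFamAlg R m u) r =
      Ideal.Quotient.mk (Ideal.span (Set.range fun i => (X i) ^ m - C (u i))) (C r) := rfl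
  rw [h]
  unfold lift
  rw [Ideal.Quotient.lift_mk, eval₂Hom_C]

theorem lift_comp {B : Type*} [CommRing B] (g : R →+* B) (b : Fin N → B)
    (hb : ∀ i, b i ^ m = g (u i)) :
    (lift g b hb).comp (algebraMap R (LangSh.KumFamAlg R m u)) = g := by
  ext r
  exact lift_algebraMap g b hb r

theorem hom_ext {B : Type*} [CommRing B] {f g : LangSh.KumFamAlg R m u →+* B}
    (h1 : f.comp (algebraMap R _) = g.comp (algebraMap R _))
    (h2 : ∀ i, f (y m u i) = g (y m u i)) : f = g := by
  refine Ideal.Quotient.ringHom_ext ?_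
  refine MvPolynomial.ringHom_ext' ?_ h2
  exact h1

/-- algebra maps out of the multi-Kummer algebra -/
noncomputable def liftA {B : Type*} [CommRing B] [Algebra R B] (b : Fin N → B)
    (hb : ∀ i, b i ^ m = algebraMap R B (u i)) : LangSh.KumFamAlg R m u →ₐ[R] B :=
  { lift (algebraMap R B) b hb with
    commutes' := fun r => lift_algebraMap _ b hb r }

@[simp] theorem liftA_y {B : Type*} [CommRing B] [Algebra R B] (b : Fin N → B)
    (hb : ∀ i, b i ^ m = algebraMap R B (u i)) (i : Fin N) : liftA b hb (y m u i) = b i :=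
  lift_y _ b hb i

theorem algHom_ext {B : Type*} [CommRing B] [Algebra R B] {f g : LangSh.KumFamAlg R m u →ₐ[R] B}
    (h2 : ∀ i, f (y m u i) = g (y m u i)) : f = g := by
  have h : (f : LangSh.KumFamAlg R m u →+* B) = g :=
    hom_ext (by rw [AlgHom.comp_algebraMap, AlgHom.comp_algebraMap]) h2
  ext x
  exact DFunLike.congr_fun h x

theorem pow_y {B : Type*} [CommRing B] [Algebra R B] (f : LangSh.KumFamAlg R m u →ₐ[R] B) (i : Fin N) :
    f (y m u i) ^ m = algebraMap R B (u i) := by
  rw [← map_pow, y_pow, AlgHom.commutes]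

end Alg

section Newton

variable {B : Type*} [CommRing B]

theorem add_pow_sq {b d : B} (hd : d ^ 2 = 0) (m : ℕ) :
    (b + d) ^ m = b ^ m + (m : B) * b ^ (m - 1) * d := by
  have h := Polynomial.aeval_add_of_sq_eq_zero (R := B) (S := B) (Polynomial.X ^ m) b d hd
  simpa [Polynomial.derivative_X_pow] using h

/-- Newton's lemma for roots, square zero case -/
theorem existsUnique_root {I : Ideal B} (hI : I ^ 2 = ⊥) (m : ℕ) (hm : IsUnit (m : B)) {v b : B}
    (hv : IsUnit v) (hb : b ^ m - v ∈ I) :
    (∃ d ∈ I, (b + d) ^ m = v) ∧ ∀ d ∈ I, ∀ d' ∈ I, (b + d) ^ m = v → (b + d') ^ m = v → d = d' := by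
  have hsq : ∀ d ∈ I, ∀ d' ∈ I, d * d' = 0 := by
    intro d hd d' hd'
    have : d * d' ∈ I ^ 2 := by rw [pow_two]; exact Ideal.mul_mem_mul hd hd'
    rwa [hI, Ideal.mem_bot] at this
  have hsq' : ∀ d ∈ I, d ^ 2 = 0 := fun d hd => by rw [pow_two]; exact hsq d hd d hd
  rcases Nat.eq_zero_or_pos m with rfl | hpos
  · have : Subsingleton B := by
      rw [Nat.cast_zero, isUnit_zero_iff] at hm
      exact subsingleton_of_zero_eq_one hm
    exact ⟨⟨0, I.zero_mem, Subsingleton.elim _ _⟩, fun _ _ _ _ _ _ => Subsingleton.elim _ _⟩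
  · have hbu : IsUnit (b ^ m) := by
      have h1 : b ^ m = v + (b ^ m - v) := by ring
      have hn : IsNilpotent (b ^ m - v) := ⟨2, hsq' _ hb⟩
      rw [h1]
      exact hn.isUnit_add_left_of_commute hv (Commute.all _ _)
    have hbu1 : IsUnit b := (isUnit_pow_iff hpos.ne').1 hbu
    obtain ⟨w, hw⟩ : IsUnit ((m : B) * b ^ (m - 1)) := hm.mul (hbu1.pow _)
    refine ⟨⟨-(b ^ m - v) * (↑w⁻¹ : B), I.mul_mem_right _ (I.neg_mem hb), ?_⟩, ?_⟩
    · rw [add_pow_sq (hsq' _ (I.mul_mem_right _ (I.neg_mem hb))), ← hw]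
      have : (w : B) * (-(b ^ m - v) * (↑w⁻¹ : B)) = -(b ^ m - v) := by
        rw [mul_comm, mul_assoc, Units.inv_mul, mul_one]
      rw [this]
      ring
    · intro d hd d' hd' h1 h2
      rw [add_pow_sq (hsq' _ hd), ← hw] at h1
      rw [add_pow_sq (hsq' _ hd'), ← hw] at h2
      have h3 : (w : B) * d = w * d' := by
        have := h1.trans h2.symm
        exact add_left_cancel this
      have := congrArg (fun z => (↑w⁻¹ : B) * z) h3
      simpa [← mul_assoc] using this

end Newton

section Et

variable (R : Type u) [CommRing R] {N : ℕ} (m : ℕ) (hm : IsUnit (m : R)) (u : Fin N → R)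
  (hu : ∀ i, IsUnit (u i))

include hm hu

theorem formallyEtale : Algebra.FormallyEtale R (LangSh.KumFamAlg R m u) := by
  refine Algebra.FormallyEtale.iff_comp_bijective.mpr fun S _ _ I hI => ⟨?_, ?_⟩
  · intro f g hfg
    refine algHom_ext fun i => ?_
    have hmS : IsUnit (m : S) := by
      have := hm.map (algebraMap R S)
      rwa [map_natCast] at this
    have h1 : f (y m u i) - g (y m u i) ∈ I := by
      have := DFunLike.congr_fun hfg (y m u i)
      simp only [AlgHom.comp_apply] at this
      exact (Ideal.Quotient.mk_eq_mk_iff_sub_mem _ _).1 this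
    have hg := pow_y g i
    have h2 := (existsUnique_root hI m hmS (v := algebraMap R S (u i)) (b := g (y m u i))
      ((hu i).map _) (by rw [hg, sub_self]; exact I.zero_mem)).2
      (f (y m u i) - g (y m u i)) h1 0 I.zero_mem (by rw [add_sub_cancel]; exact pow_y f i)
      (by rw [add_zero]; exact hg)
    exact sub_eq_zero.mp h2
  · intro f
    have hmS : IsUnit (m : S) := by
      have := hm.map (algebraMap R S)
      rwa [map_natCast] at this
    choose b hb using fun i => Ideal.Quotient.mk_surjective (f (y m u i))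
    have h1 : ∀ i, b i ^ m - algebraMap R S (u i) ∈ I := by
      intro i
      rw [← Ideal.Quotient.mk_eq_mk_iff_sub_mem, map_pow, hb i, pow_y]
      rfl
    choose d hd hd' using fun i => (existsUnique_root hI m hmS ((hu i).map (algebraMap R S)) (h1 i)).1
    refine ⟨liftA (fun i => b i + d i) hd', ?_⟩
    refine algHom_ext fun i => ?_
    rw [AlgHom.comp_apply, liftA_y]
    change Ideal.Quotient.mk I (b i + d i) = _
    rw [map_add, hb i, Ideal.Quotient.eq_zero_iff_mem.2 (hd i), add_zero]

theorem etaleAlg : Algebra.Etale R (LangSh.KumFamAlg R m u) where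
  formallyEtale := formallyEtale R m hm u hu
  finitePresentation := by
    refine Algebra.FinitePresentation.quotient ?_
    exact Submodule.fg_span (Set.finite_range _)

theorem etale_cover : Etale (LangSh.cover R (LangSh.KumFamAlg R m u)) := by
  rw [HasRingHomProperty.Spec_iff (P := @Etale)]
  change (algebraMap R (LangSh.KumFamAlg R m u)).Etale
  rw [RingHom.etale_algebraMap]
  exact etaleAlg R m hm u hu

end Et

section Fin

variable (R : Type u) [CommRing R] {N : ℕ} (m : ℕ) (hm : m ≠ 0) (u : Fin N → R)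

theorem adjoin_y : Algebra.adjoin R (Set.range (y m u)) = ⊤ := by
  rw [eq_top_iff]
  rintro x -
  obtain ⟨p, rfl⟩ := Ideal.Quotient.mk_surjective x
  induction p using MvPolynomial.induction_on with
  | C a => exact Subalgebra.algebraMap_mem _ a
  | add p q hp hq => rw [map_add]; exact Subalgebra.add_mem _ hp hq
  | mul_X p i hp => rw [map_mul]; exact Subalgebra.mul_mem _ hp (Algebra.subset_adjoin ⟨i, rfl⟩)

include hm

theorem isIntegral_y (i : Fin N) : IsIntegral R (y m u i) := by
  refine IsIntegral.of_pow (Nat.pos_of_ne_zero hm) ?_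
  rw [y_pow]
  exact isIntegral_algebraMap

theorem moduleFinite : Module.Finite R (LangSh.KumFamAlg R m u) := by
  have h : (Algebra.adjoin R (Set.range (y m u))).toSubmodule.FG :=
    fg_adjoin_of_finite (Set.finite_range _) (by rintro _ ⟨i, rfl⟩; exact isIntegral_y R m hm u i)
  rw [adjoin_y, Algebra.top_toSubmodule] at h
  exact ⟨h⟩

theorem isFinite_cover : IsFinite (LangSh.cover R (LangSh.KumFamAlg R m u)) := by
  rw [LangSh.cover, IsFinite.SpecMap_iff]
  change (algebraMap R (LangSh.KumFamAlg R m u)).Finite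
  rw [RingHom.finite_algebraMap]
  exact moduleFinite R m hm u

theorem surjective_cover : Surjective (LangSh.cover R (LangSh.KumFamAlg R m u)) := by
  constructor
  intro p
  -- a geometric point over `p`
  let Ω := AlgebraicClosure p.asIdeal.ResidueField
  let g : R →+* Ω := (algebraMap p.asIdeal.ResidueField Ω).comp (algebraMap R p.asIdeal.ResidueField)
  have hex : ∀ i, ∃ b : Ω, b ^ m = g (u i) := fun i => IsAlgClosed.exists_pow_nat_eq _ (Nat.pos_of_ne_zero hm)
  choose b hb using hex
  let f := lift g b hb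
  refine ⟨⟨RingHom.ker f, RingHom.ker_isPrime f⟩, ?_⟩
  apply PrimeSpectrum.ext
  change Ideal.comap (algebraMap R (LangSh.KumFamAlg R m u)) (RingHom.ker f) = p.asIdeal
  have h1 : Ideal.comap (algebraMap R (LangSh.KumFamAlg R m u)) (RingHom.ker f) = RingHom.ker g := by
    rw [RingHom.comap_ker, lift_comp]
  rw [h1]
  have h2 : RingHom.ker g = RingHom.ker (algebraMap R p.asIdeal.ResidueField) :=
    RingHom.ker_comp_of_injective _ (algebraMap p.asIdeal.ResidueField Ω).injective
  rw [h2]
  exact Ideal.ker_algebraMap_residueField p.asIdeal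

end Fin

end Groth.Agent.Sga4h.H768.KumEt
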