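import Groth.Agent.Sga4h.H768.KumTor
import Groth.Agent.Sga4h.H918.Lang

/-!
# Sheaves with a character of the multi-Kummer torsor are products of Kummer sheaves

* `hasGen_F`: on a model of the multi-Kummer covering of `u`, the sheaf `F_θ(0, u_i)` has the character `θ(1, g_i)`;
* `tensFin`: iterated tensor products;
* `nonempty_iso_tensFin`: a sheaf with the character `θ` of `(k^*)^N` is `⊗_i F_{θ_i}(0, u_i)`;
* `FamTor.pull`: base change of models; `specTor`: the model over `Spec R`.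
-/

set_option autoImplicit false

universe u

open CategoryTheory CategoryTheory.Limits AlgebraicGeometry Opposite

namespace Groth.Agent.Sga4h.H768.KumDec

open Groth.Agent.Etbase Groth.Agent.Etcore Groth.Agent.EtpbcA Groth.Agent.Etcore.LVan
open Groth.Agent.Sga4h.H918 Groth.Agent.Sga4h.H918.Gen Groth.Agent.Sga4h.H918.Ask Groth.Agent.Sga4h.H768.KumTor
open Groth.Agent.Sga4h.H918.Lang
open Groth.Agent.Sga4h.H918.Tens (tens)

variable {k : Type*} [Field k] [Fintype k] {Λ : Type (u + 1)} [CommRing Λ] {N : ℕ}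
variable {X : Scheme.{u}} {ρ : k →+* Γ(X, ⊤)} {u : Fin N → Γ(X, ⊤)}

/-- Comparison of two models. -/
theorem exists_cmp (T T' : FamTor ρ u) : ∃ a : T.T ⟶ T'.T, ∀ g, T.act g ≫ a = a ≫ T'.act g := by
  obtain ⟨a, h2⟩ := T'.exists_hom T.T T.y T.eq_y
  refine ⟨a, fun g => T'.hom_ext fun i => ?_⟩
  rw [pb_comp, pb_comp, h2, T'.act_y, T.act_y, map_mul, h2, Tor.pb_cst]

theorem hasGen_model {L : EtModW.Mod Λ X} {θ : (Fin N → kˣ) → Λ} (T T' : FamTor ρ u)
    (h : HasGen L T.T T.act θ) : HasGen L T'.T T'.act θ := by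
  obtain ⟨a, ha⟩ := exists_cmp T' T
  exact h.res a id ha

/-- The map to the Kummer covering of `u_i`. -/
theorem exists_toTor (T : FamTor ρ u) (i : Fin N) (T' : Tor ρ 0 (u i)) :
    ∃ a : T.T ⟶ T'.T, ∀ g, T.act g ≫ a = a ≫ T'.act (1, g i) := by
  obtain ⟨a, h1, h2⟩ := T'.exists_hom T.T 0 (T.y i)
    (by rw [zero_pow Fintype.card_ne_zero, sub_zero, map_zero]) (T.eq_y i)
  refine ⟨a, fun g => T'.hom_ext ?_ ?_⟩
  · rw [pb_comp, pb_comp, h1, T'.act_z, map_add, h1, Tor.pb_cst, map_zero]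
    change 0 = 0 + Tor.cst ρ T.T (0 : k)
    rw [map_zero, add_zero]
  · rw [pb_comp, pb_comp, h2, T'.act_y, T.act_y, map_mul, h2, Tor.pb_cst]

/-- The character of `F_θ(0, u_i)` on the multi-Kummer torsor. -/
theorem hasGen_F (T : FamTor ρ u) (i : Fin N) (θ : GG k →* Λˣ) :
    HasGen (F ρ θ 0 (u i) (T.isUnit i)) T.T T.act (fun g => (θ (1, g i) : Λ)) := by
  obtain ⟨T'⟩ := exists_tor ρ 0 (u i) (T.isUnit i)
  obtain ⟨a, ha⟩ := exists_toTor T i T'
  have h := HasGen.res (Lang.hasGen_F T' θ) (act' := T.act) a (fun g => ((1, g i) : GG k)) ha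
  exact h

section Fin

/-- Iterated tensor product. -/
noncomputable def tensFin : (n : ℕ) → (Fin n → EtModW.Mod Λ X) → EtModW.Mod Λ X
  | 0, _ => EtModW.constMod Λ X Λ
  | n + 1, M => tens (M 0) (tensFin n fun i => M i.succ)

theorem tensFin_zero (M : Fin 0 → EtModW.Mod Λ X) : tensFin 0 M = EtModW.constMod Λ X Λ := rfl

theorem tensFin_succ (n : ℕ) (M : Fin (n + 1) → EtModW.Mod Λ X) :
    tensFin (n + 1) M = tens (M 0) (tensFin n fun i => M i.succ) := rfl

theorem hasGen_tensFin {T : X.Etale} {G : Type*} {act : G → (T ⟶ T)} : ∀ (n : ℕ) (M : Fin n → EtModW.Mod Λ X)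
    (θ : Fin n → G → Λ), (∀ i, HasGen (M i) T act (θ i)) →
    HasGen (tensFin n M) T act (fun g => ∏ i, θ i g)
  | 0, M, θ, _ => by
    have e : (fun g : G => ∏ i : Fin 0, θ i g) = fun _ => (1 : Λ) := by
      funext g
      exact Fin.prod_univ_zero _
    rw [e]
    exact hasGen_const T act
  | n + 1, M, θ, h => by
    have e : (fun g : G => ∏ i, θ i g) = fun g => θ 0 g * ∏ i : Fin n, θ i.succ g := by
      funext g
      exact Fin.prod_univ_succ _
    rw [e]
    exact Tens.HasGen.tens (h 0) (hasGen_tensFin n (fun i => M i.succ) (fun i => θ i.succ) fun i => h i.succ)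

end Fin

/-- The `i`-th component of a character of `(k^*)^N`, as a character of `k × k^*`. -/
def comp (θ : (Fin N → kˣ) →* Λˣ) (i : Fin N) : GG k →* Λˣ :=
  (θ.comp (MonoidHom.mulSingle (fun _ => kˣ) i)).comp (MonoidHom.snd _ _)

omit [Fintype k] in
theorem comp_apply (θ : (Fin N → kˣ) →* Λˣ) (i : Fin N) (g : GG k) :
    comp θ i g = θ (Pi.mulSingle i g.2) := rfl

omit [Fintype k] in
theorem comp_left (θ : (Fin N → kˣ) →* Λˣ) (i : Fin N) (c : Multiplicative k) : comp θ i (c, 1) = 1 := by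
  rw [comp_apply, Pi.mulSingle_one, map_one]

omit [Fintype k] in
theorem eq_prod_comp (θ : (Fin N → kˣ) →* Λˣ) (g : Fin N → kˣ) : θ g = ∏ i, comp θ i (1, g i) := by
  conv_lhs => rw [← Finset.univ_prod_mulSingle g]
  rw [map_prod]
  rfl

/-- A sheaf with the character `θ` of `(k^*)^N` is `⊗_i F_{θ_i}(0, u_i)`. -/
theorem nonempty_iso_tensFin' (T : FamTor ρ u) (θ : Fin N → GG k →* Λˣ) {L : EtModW.Mod Λ X}
    (h : HasGen L T.T T.act (fun g => ∏ i, (θ i (1, g i) : Λ))) :
    Nonempty (L ≅ tensFin N fun i => F ρ (θ i) 0 (u i) (T.isUnit i)) :=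
  HasGen.unique T.surj T.locTrans h (hasGen_tensFin N _ _ fun i => hasGen_F T i (θ i))

/-- A sheaf with the character `θ` of `(k^*)^N` is `⊗_i F_{θ_i}(0, u_i)`. -/
theorem nonempty_iso_tensFin (T : FamTor ρ u) (θ : (Fin N → kˣ) →* Λˣ) {L : EtModW.Mod Λ X}
    (h : HasGen L T.T T.act (fun g => (θ g : Λ))) :
    Nonempty (L ≅ tensFin N fun i => F ρ (comp θ i) 0 (u i) (T.isUnit i)) := by
  apply nonempty_iso_tensFin' T
  have e : (fun g => (θ g : Λ)) = fun g => ∏ i, (comp θ i (1, g i) : Λ) := by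
    funext g
    rw [eq_prod_comp, Units.coe_prod]
  rwa [← e]

section Pull

variable {Y : Scheme.{u}} (g : Y ⟶ X)

/-- Base change of a model. -/
noncomputable def _root_.Groth.Agent.Sga4h.H768.KumTor.FamTor.pull (T : FamTor ρ u) :
    FamTor (g.appTop.hom.comp ρ) (fun i => g.appTop.hom (u i)) where
  T := (EtCoh.bc g).obj T.T
  y i := (pullback.fst T.T.hom g).appTop.hom (T.y i)
  isKF := T.isKF.baseChange g (IsPullback.of_hasPullback T.T.hom g)
  isUnit i := (T.isUnit i).map _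

theorem bc_map_act (T : FamTor ρ u) (a : Fin N → kˣ) : (EtCoh.bc g).map (T.act a) = (T.pull g).act a := by
  have e : ((EtCoh.bc g).map (T.act a)).left ≫ pullback.fst T.T.hom g = pullback.fst T.T.hom g ≫ (T.act a).left :=
    (EtCoh.isPullback_bc_map g (T.act a)).w
  have e2 : ∀ s : Γ(T.T.left, ⊤), pb ((EtCoh.bc g).map (T.act a)) ((pullback.fst T.T.hom g).appTop.hom s) =
      (pullback.fst T.T.hom g).appTop.hom (pb (T.act a) s) := by
    intro s
    change (((EtCoh.bc g).map (T.act a)).left ≫ pullback.fst T.T.hom g).appTop.hom s = _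
    rw [e]
    rfl
  have e3 : ∀ s : Γ(X, ⊤), (pullback.fst T.T.hom g).appTop.hom (fb T.T s) = fb (T.pull g).T (g.appTop.hom s) := by
    intro s
    change (pullback.fst T.T.hom g ≫ T.T.hom).appTop.hom s = (pullback.snd T.T.hom g ≫ g).appTop.hom s
    rw [pullback.condition]
  apply (T.pull g).hom_ext
  intro i
  refine (e2 (T.y i)).trans (Eq.trans ?_ ((T.pull g).act_y a i).symm)
  rw [T.act_y, map_mul]
  exact congrArg (fun q => q * (T.pull g).y i) (e3 (ρ (a i : k)))

/-- Base change of a character. -/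
theorem hasGen_pull (T : FamTor ρ u) {L : EtModW.Mod Λ X} {θ : (Fin N → kˣ) → Λ}
    (h : HasGen L T.T T.act θ) : HasGen ((EtModW.pull Λ g).obj L) (T.pull g).T (T.pull g).act θ := by
  have h2 := h.pull g
  have e : (fun a => (EtCoh.bc g).map (T.act a)) = (T.pull g).act := funext fun a => bc_map_act g T a
  rw [e] at h2
  exact h2

end Pull

section Spec

variable {R : Type u} [CommRing R]

/-- The model `Spec (LangSh.KumFamAlg R (q - 1) u)` over `Spec R`. -/
noncomputable def specTor (ρ : k →+* Γ(Spec (CommRingCat.of R), ⊤)) (u : Fin N → R) (hu : ∀ i, IsUnit (u i)) :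
    FamTor ρ (fun i => gl R (u i)) where
  T :=
    have hm : IsUnit ((Fintype.card k - 1 : ℕ) : R) := by
      have h0 : ((Fintype.card k : ℕ) : R) = 0 :=
        cast_card_eq_zero ((Scheme.ΓSpecIso (CommRingCat.of R)).hom.hom.comp ρ)
      rw [Nat.cast_sub Fintype.card_pos, h0]
      simp
    have : Etale (LangSh.cover R (LangSh.KumFamAlg R (Fintype.card k - 1) u)) :=
      KumEt.etale_cover R _ hm u hu
    Scheme.Etale.mk (LangSh.cover R (LangSh.KumFamAlg R (Fintype.card k - 1) u))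
  y i := gl (LangSh.KumFamAlg R (Fintype.card k - 1) u) (KumEt.y _ u i)
  isKF := isKF_cover R _ u
  isUnit i := (hu i).map _

theorem specTor_left (ρ : k →+* Γ(Spec (CommRingCat.of R), ⊤)) (u : Fin N → R) (hu : ∀ i, IsUnit (u i)) :
    (specTor ρ u hu).T.left = Spec (CommRingCat.of (LangSh.KumFamAlg R (Fintype.card k - 1) u)) := rfl

theorem specTor_hom (ρ : k →+* Γ(Spec (CommRingCat.of R), ⊤)) (u : Fin N → R) (hu : ∀ i, IsUnit (u i)) :
    (specTor ρ u hu).T.hom = LangSh.cover R (LangSh.KumFamAlg R (Fintype.card k - 1) u) := rfl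

theorem specTor_y (ρ : k →+* Γ(Spec (CommRingCat.of R), ⊤)) (u : Fin N → R) (hu : ∀ i, IsUnit (u i)) (i : Fin N) :
    (specTor ρ u hu).y i = gl (LangSh.KumFamAlg R (Fintype.card k - 1) u) (KumEt.y _ u i) := rfl

end Spec

end Groth.Agent.Sga4h.H768.KumDec
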