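import Groth.Agent.Sga4h.H918.Ask
import Groth.Agent.Sga4h.H768.KumEt

/-!
# The multi-Kummer torsor

For a scheme `X` over a finite field `k` with `q` elements and invertible functions `u_i`:
the étale covering `y_i ^ (q - 1) = u_i` with its action of `(k^*) ^ N`.
* `IsKF`: the universal property; `IsKF.baseChange`; `isKF_cover`: `Spec (LangSh.KumFamAlg R m u)`;
* `FamTor`: models as étale `X`-schemes; `FamTor.act`, `act_y`, `act_one`, `act_mul`, `locTrans`, `surj`.
-/

set_option autoImplicit false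

universe u

open CategoryTheory CategoryTheory.Limits AlgebraicGeometry Opposite

namespace Groth.Agent.Sga4h.H768.KumTor

open Groth.Agent.Etbase Groth.Agent.Etcore Groth.Agent.EtpbcA Groth.Agent.Etcore.LVan
open Groth.Agent.Sga4h.H918 Groth.Agent.Sga4h.H918.Gen Groth.Agent.Sga4h.H918.Ask

variable {N : ℕ}

/-- `π : T ⟶ X` is the covering `y_i ^ m = u_i`. -/
structure IsKF {T X : Scheme.{u}} (m : ℕ) (π : T ⟶ X) (u : Fin N → Γ(X, ⊤)) (y : Fin N → Γ(T, ⊤)) : Prop where
  eq_y : ∀ i, y i ^ m = π.appTop.hom (u i)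
  exists_lift : ∀ {Z : Scheme.{u}} (h : Z ⟶ X) (y' : Fin N → Γ(Z, ⊤)),
    (∀ i, y' i ^ m = h.appTop.hom (u i)) → ∃ a : Z ⟶ T, a ≫ π = h ∧ ∀ i, a.appTop.hom (y i) = y' i
  uniq : ∀ {Z : Scheme.{u}} (a b : Z ⟶ T), a ≫ π = b ≫ π →
    (∀ i, a.appTop.hom (y i) = b.appTop.hom (y i)) → a = b

/-- Base change of the covering. -/
theorem IsKF.baseChange {T X Y T' : Scheme.{u}} {m : ℕ} {π : T ⟶ X} {u : Fin N → Γ(X, ⊤)}
    {y : Fin N → Γ(T, ⊤)} (h : IsKF m π u y) (g : Y ⟶ X) {g' : T' ⟶ T} {π' : T' ⟶ Y}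
    (sq : IsPullback g' π' π g) :
    IsKF m π' (fun i => g.appTop.hom (u i)) (fun i => g'.appTop.hom (y i)) where
  eq_y i := by
    rw [← map_pow, h.eq_y]
    change (g' ≫ π).appTop.hom (u i) = (π' ≫ g).appTop.hom (u i)
    rw [sq.w]
  exists_lift {Z} k y' hy := by
    obtain ⟨a, ha1, ha3⟩ := h.exists_lift (k ≫ g) y' hy
    refine ⟨sq.lift a k ha1, sq.lift_snd _ _ _, fun i => ?_⟩
    rw [← ha3 i]
    change (sq.lift a k ha1 ≫ g').appTop.hom (y i) = _
    rw [sq.lift_fst]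
  uniq {Z} a b hab hy := by
    apply sq.hom_ext _ hab
    apply h.uniq _ _ _ hy
    rw [Category.assoc, Category.assoc, sq.w, ← Category.assoc, hab, Category.assoc]

theorem IsKF.of_iso {T T' X : Scheme.{u}} {m : ℕ} {π : T ⟶ X} {u : Fin N → Γ(X, ⊤)}
    {y : Fin N → Γ(T, ⊤)} (h : IsKF m π u y) (e : T' ≅ T) :
    IsKF m (e.hom ≫ π) u (fun i => e.hom.appTop.hom (y i)) := by
  have h2 := h.baseChange (𝟙 X) (g' := e.hom) (π' := e.hom ≫ π)
    (IsPullback.of_horiz_isIso ⟨by rw [Category.comp_id]⟩)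
  have e1 : (fun i => (𝟙 X : X ⟶ X).appTop.hom (u i)) = u := by
    funext i
    rw [Scheme.Hom.id_appTop]
    rfl
  rwa [e1] at h2

/-- Every point of `X` lifts. -/
theorem IsKF.surjective {T X : Scheme.{u}} {m : ℕ} {π : T ⟶ X} {u : Fin N → Γ(X, ⊤)}
    {y : Fin N → Γ(T, ⊤)} (h : IsKF m π u y) (hm : m ≠ 0) (p : X) : ∃ t : T, π t = p := by
  let K : Type u := AlgebraicClosure (X.residueField p)
  let φ : X.residueField p ⟶ CommRingCat.of K := CommRingCat.ofHom (algebraMap (X.residueField p) K)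
  let s : Spec (CommRingCat.of K) ⟶ X := Spec.map φ ≫ X.fromSpecResidueField p
  let ε : Γ(Spec (CommRingCat.of K), ⊤) →+* K := (Scheme.ΓSpecIso (CommRingCat.of K)).hom.hom
  have hex : ∀ i, ∃ b : K, b ^ m = ε (s.appTop.hom (u i)) :=
    fun i => IsAlgClosed.exists_pow_nat_eq _ (Nat.pos_of_ne_zero hm)
  choose b hb using hex
  obtain ⟨a, ha, -⟩ := h.exists_lift s (fun i => (Scheme.ΓSpecIso (CommRingCat.of K)).inv.hom (b i)) (by
    intro i
    rw [← map_pow, hb i]
    exact congrArg (fun q => q.hom (s.appTop.hom (u i))) (Scheme.ΓSpecIso (CommRingCat.of K)).hom_inv_id)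
  refine ⟨a (IsLocalRing.closedPoint K), ?_⟩
  have h1 := congrArg (fun q => q (IsLocalRing.closedPoint K)) ha
  refine h1.trans ?_
  change X.fromSpecResidueField p (Spec.map φ (IsLocalRing.closedPoint K)) = p
  exact Scheme.fromSpecResidueField_apply p _

section Spec

variable {R : Type u} [CommRing R]

/-- global functions on `Spec R` -/
noncomputable abbrev gl (R : Type u) [CommRing R] : R →+* Γ(Spec (CommRingCat.of R), ⊤) :=
  (Scheme.ΓSpecIso (CommRingCat.of R)).inv.hom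

theorem appTop_gl {Z : Scheme.{u}} {A B : Type u} [CommRing A] [CommRing B] (f : A →+* B)
    (k : Z ⟶ Spec (CommRingCat.of B)) (a : A) :
    (k ≫ Spec.map (CommRingCat.ofHom f)).appTop.hom (gl A a) = k.appTop.hom (gl B (f a)) := by
  have h := Scheme.ΓSpecIso_inv_naturality (CommRingCat.ofHom f)
  have h1 := congrArg (fun q => (q ≫ k.appTop).hom a) h
  rw [Scheme.Hom.comp_appTop]
  exact h1.symm

theorem gl_naturality {A B : Type u} [CommRing A] [CommRing B] (f : A →+* B) (a : A) :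
    (Spec.map (CommRingCat.ofHom f)).appTop.hom (gl A a) = gl B (f a) :=
  (congrArg (fun q => q.hom a) (Scheme.ΓSpecIso_inv_naturality (CommRingCat.ofHom f))).symm

/-- morphisms to `Spec A` from ring maps -/
theorem exists_toSpec {Z : Scheme.{u}} {A : Type u} [CommRing A] (φ : A →+* Γ(Z, ⊤)) :
    ∃ k : Z ⟶ Spec (CommRingCat.of A), ∀ a, k.appTop.hom (gl A a) = φ a := by
  refine ⟨Z.toSpecΓ ≫ Spec.map (CommRingCat.ofHom φ), fun a => ?_⟩
  have h3 : (Scheme.ΓSpecIso (CommRingCat.of A)).inv ≫ (Z.toSpecΓ ≫ Spec.map (CommRingCat.ofHom φ)).appTop =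
      CommRingCat.ofHom φ := by
    rw [Scheme.Hom.comp_appTop, ← Scheme.ΓSpecIso_inv_naturality_assoc, Scheme.toSpecΓ_appTop,
      Iso.inv_hom_id, Category.comp_id]
  exact congrArg (fun q => q.hom a) h3

theorem toSpec_ext {Z : Scheme.{u}} {A : Type u} [CommRing A] {k k' : Z ⟶ Spec (CommRingCat.of A)}
    (h : ∀ a, k.appTop.hom (gl A a) = k'.appTop.hom (gl A a)) : k = k' := by
  apply ext_of_isAffine
  rw [← cancel_epi (Scheme.ΓSpecIso (CommRingCat.of A)).inv]
  apply CommRingCat.hom_ext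
  ext a
  exact h a

/-- The multi-Kummer cover of `LangSh`. -/
theorem isKF_cover (R : Type u) [CommRing R] (m : ℕ) (u : Fin N → R) :
    IsKF m (LangSh.cover R (LangSh.KumFamAlg R m u)) (fun i => gl R (u i))
      (fun i => gl (LangSh.KumFamAlg R m u) (KumEt.y m u i)) where
  eq_y i := by
    rw [← map_pow, KumEt.y_pow]
    exact (gl_naturality _ _).symm
  exists_lift {Z} h y' hy := by
    obtain ⟨k, hk⟩ := exists_toSpec (KumEt.lift (h.appTop.hom.comp (gl R)) y' hy)
    refine ⟨k, toSpec_ext fun a => ?_, fun i => ?_⟩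
    · rw [appTop_gl, hk, KumEt.lift_algebraMap]
      rfl
    · rw [hk, KumEt.lift_y]
  uniq {Z} k k' h hy := by
    apply toSpec_ext
    intro a
    have e : (k.appTop.hom.comp (gl (LangSh.KumFamAlg R m u))) =
        (k'.appTop.hom.comp (gl (LangSh.KumFamAlg R m u))) := by
      refine KumEt.hom_ext ?_ hy
      ext r
      change k.appTop.hom (gl _ (algebraMap R (LangSh.KumFamAlg R m u) r)) =
        k'.appTop.hom (gl _ (algebraMap R (LangSh.KumFamAlg R m u) r))
      rw [← appTop_gl, ← appTop_gl]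
      exact congrArg (fun q => q.appTop.hom (gl R r)) h
    exact DFunLike.congr_fun e a

end Spec

section

variable {k : Type*} [Field k] [Fintype k]

/-- A model of the multi-Kummer covering of `u`. -/
structure FamTor {X : Scheme.{u}} (ρ : k →+* Γ(X, ⊤)) (u : Fin N → Γ(X, ⊤)) where
  /-- the covering -/
  T : X.Etale
  /-- the roots of `y_i ^ (q - 1) = u_i` -/
  y : Fin N → Γ(T.left, ⊤)
  isKF : IsKF (Fintype.card k - 1) (show T.left ⟶ X from T.hom) u y
  isUnit : ∀ i, IsUnit (u i)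

namespace FamTor

variable {X : Scheme.{u}} {ρ : k →+* Γ(X, ⊤)} {u : Fin N → Γ(X, ⊤)} (T : FamTor ρ u)

theorem eq_y (i : Fin N) : T.y i ^ (Fintype.card k - 1) = fb T.T (u i) := T.isKF.eq_y i

theorem isUnit_y (i : Fin N) : IsUnit (T.y i) := by
  have h : IsUnit (T.y i ^ (Fintype.card k - 1)) := by rw [T.eq_y]; exact (T.isUnit i).map _
  exact (isUnit_pow_iff (Nat.sub_ne_zero_of_lt Fintype.one_lt_card)).1 h

theorem exists_hom (W : X.Etale) (y' : Fin N → Γ(W.left, ⊤))
    (hy : ∀ i, y' i ^ (Fintype.card k - 1) = fb W (u i)) : ∃ a : W ⟶ T.T, ∀ i, pb a (T.y i) = y' i := by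
  obtain ⟨a, h1, h3⟩ := T.isKF.exists_lift (show W.left ⟶ X from W.hom) y' hy
  exact ⟨MorphismProperty.Over.homMk a h1, h3⟩

theorem hom_ext {W : X.Etale} {a b : W ⟶ T.T} (hy : ∀ i, pb a (T.y i) = pb b (T.y i)) : a = b := by
  apply MorphismProperty.Over.Hom.ext
  exact T.isKF.uniq _ _ ((MorphismProperty.Over.w a).trans (MorphismProperty.Over.w b).symm) hy

theorem surj (x : X) : ∃ t : T.T.left, T.T.hom t = x :=
  T.isKF.surjective (Nat.sub_ne_zero_of_lt Fintype.one_lt_card) x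

theorem exists_act (g : Fin N → kˣ) : ∃ a : T.T ⟶ T.T, ∀ i,
    pb a (T.y i) = Tor.cst ρ T.T (g i : k) * T.y i := by
  apply T.exists_hom
  intro i
  rw [mul_pow, ← map_pow, FiniteField.pow_card_sub_one_eq_one _ (g i).ne_zero, map_one, one_mul, T.eq_y]

/-- The action. -/
noncomputable def act (g : Fin N → kˣ) : T.T ⟶ T.T := (T.exists_act g).choose

theorem act_y (g : Fin N → kˣ) (i : Fin N) : pb (T.act g) (T.y i) = Tor.cst ρ T.T (g i : k) * T.y i :=
  (T.exists_act g).choose_spec i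

theorem act_one : T.act 1 = 𝟙 _ := by
  apply T.hom_ext
  intro i
  rw [act_y]
  change Tor.cst ρ T.T 1 * T.y i = T.y i
  rw [map_one, one_mul]

theorem act_mul (g h : Fin N → kˣ) : T.act (g * h) = T.act g ≫ T.act h := by
  apply T.hom_ext
  intro i
  rw [act_y, pb_comp, act_y, map_mul, act_y, Tor.pb_cst]
  change Tor.cst ρ T.T ((g i : k) * h i) * T.y i = _
  rw [map_mul]
  ring

/-- finitely many locally constant functions -/
theorem exists_cst_fam (ρ : k →+* Γ(X, ⊤)) {n : ℕ} : ∀ (W : X.Etale) (v : Fin n → Γ(W.left, ⊤))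
    (_ : ∀ i, v i ^ Fintype.card k = v i) (w : W.left),
    ∃ (c : Fin n → k) (W' : X.Etale) (i : W' ⟶ W) (w' : W'.left), i.left w' = w ∧
      ∀ l, pb i (v l) = Tor.cst ρ W' (c l) := by
  induction n with
  | zero =>
    intro W v _ w
    exact ⟨fun l => l.elim0, W, 𝟙 W, w, rfl, fun l => l.elim0⟩
  | succ n ih =>
    intro W v hv w
    obtain ⟨c, W₁, i₁, w₁, h1, h2⟩ := Tor.exists_cst ρ W (v 0) (hv 0) w
    obtain ⟨d, W₂, i₂, w₂, h3, h4⟩ := ih W₁ (fun l => pb i₁ (v l.succ))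
      (fun l => by rw [← map_pow, hv]) w₁
    refine ⟨Fin.cons c d, W₂, i₂ ≫ i₁, w₂, ?_, fun l => ?_⟩
    · change i₁.left (i₂.left w₂) = w
      rw [h3, h1]
    · refine Fin.cases ?_ (fun l => ?_) l
      · rw [pb_comp, h2, Tor.pb_cst]
        rfl
      · rw [pb_comp]
        exact h4 l

theorem locTrans : LocTrans T.act := by
  intro W a b w
  choose ya hya using fun i => (T.isUnit_y i).map (pb a)
  let r : Fin N → Γ(W.left, ⊤) := fun i => pb b (T.y i) * (((ya i)⁻¹ : Γ(W.left, ⊤)ˣ) : Γ(W.left, ⊤))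
  have hr0 : ∀ i, r i * pb a (T.y i) = pb b (T.y i) := by
    intro i
    change pb b (T.y i) * (((ya i)⁻¹ : Γ(W.left, ⊤)ˣ) : Γ(W.left, ⊤)) * pb a (T.y i) = _
    rw [← hya, mul_assoc, Units.inv_mul, mul_one]
  have hr1 : ∀ i, r i ^ (Fintype.card k - 1) = 1 := by
    intro i
    have h1 := congrArg (pb a) (T.eq_y i)
    have h2 := congrArg (pb b) (T.eq_y i)
    rw [map_pow, pb_fb] at h1 h2
    have h4 : r i ^ (Fintype.card k - 1) * fb W (u i) = fb W (u i) := by
      rw [← h1, ← mul_pow, hr0, h2, h1]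
    exact ((T.isUnit i).map (fb W)).mul_eq_right.1 h4
  have hr : ∀ i, r i ^ Fintype.card k = r i := by
    intro i
    calc r i ^ Fintype.card k = r i ^ (Fintype.card k - 1 + 1) := by rw [Nat.sub_add_cancel Fintype.card_pos]
      _ = r i := by rw [pow_succ, hr1, one_mul]
  obtain ⟨d, W₂, i₂, w₂, h3, h4⟩ := exists_cst_fam ρ W r hr w
  have hd : ∀ i, d i ≠ 0 := by
    intro i h0
    have h5 := congrArg (fun q => pb i₂ q) (hr1 i)
    simp only [map_pow, map_one, h4, h0, map_zero] at h5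
    rw [zero_pow (Nat.sub_ne_zero_of_lt Fintype.one_lt_card)] at h5
    have := Tor.nontrivial_of_point w₂
    exact zero_ne_one h5
  refine ⟨W₂, i₂, w₂, fun i => Units.mk0 (d i) (hd i), h3, ?_⟩
  apply T.hom_ext
  intro i
  rw [← Category.assoc, pb_comp (_ ≫ a) (T.act _), act_y, map_mul, Tor.pb_cst, pb_comp, pb_comp,
    ← hr0, map_mul, h4]
  rfl

theorem free (W : X.Etale) (a : W ⟶ T.T) (w : W.left) (g h : Fin N → kˣ)
    (e : a ≫ T.act g = a ≫ T.act h) : g = h := by
  have := Tor.nontrivial_of_point w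
  funext i
  have h1 : pb (a ≫ T.act g) (T.y i) = pb (a ≫ T.act h) (T.y i) := congrArg (fun q => pb q (T.y i)) e
  rw [pb_comp, pb_comp, act_y, act_y, map_mul, map_mul, Tor.pb_cst, Tor.pb_cst,
    ((T.isUnit_y i).map (pb a)).mul_left_inj] at h1
  exact Units.ext ((Tor.cst ρ W).injective h1)

end FamTor

end

end Groth.Agent.Sga4h.H768.KumTor
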