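import Groth.Agent.Sga4h.H127.RepInst
import Mathlib.AlgebraicGeometry.Morphisms.ClosedImmersion
import Mathlib.AlgebraicGeometry.Morphisms.OpenImmersion
import Mathlib.AlgebraicGeometry.PullbackCarrier

/-!
# The closed and the open part of `𝔸¹ × X` for a function `s` on `X = Spec R`

`Z = A₁ ×_S X`, `Y = V(s)`, `D = D(s)`:
* `isPullback_Y`: `Z ×_X Y = A₁ × Y`; `isPullback_D`: `Z ×_X D = A₁ × D`;
* `range_D`: the two parts are complementary;
* `isPullback_twist`, `exists_r1`: the projection `Z_D → A₁`, `T ↦ T s`, also makes `Z_D` the product.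
-/

set_option autoImplicit false

universe u

open CategoryTheory CategoryTheory.Limits AlgebraicGeometry

namespace Groth.Agent.Sga4h.H768.SigHalf

open Groth.Agent.Sga4h.H127

section Twist

variable {S A₁ D ZD : Scheme.{u}} {aA : A₁ ⟶ S} {aD : D ⟶ S} {p : ZD ⟶ A₁} {q : ZD ⟶ D} {T : Γ(A₁, ⊤)}

theorem exists_auto (hA : Rep aA (fun _ : Unit => T) PTrue) (sq : IsPullback p q aA aD) (v : Γ(D, ⊤)) :
    ∃ φ : ZD ⟶ ZD, φ ≫ q = q ∧ φ.appTop.hom (p.appTop.hom T) = p.appTop.hom T * q.appTop.hom v := by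
  obtain ⟨r, h1, h2⟩ := hA.lift ZD (p ≫ aA) (fun _ => p.appTop.hom T * q.appTop.hom v) trivial
  refine ⟨sq.lift r q (by rw [h1, sq.w]), sq.lift_snd _ _ _, ?_⟩
  rw [← comp_app, sq.lift_fst]
  exact h2 ()

theorem auto_ext (hA : Rep aA (fun _ : Unit => T) PTrue) (sq : IsPullback p q aA aD) {W : Scheme.{u}}
    {φ ψ : W ⟶ ZD} (h : φ ≫ q = ψ ≫ q) (h2 : φ.appTop.hom (p.appTop.hom T) = ψ.appTop.hom (p.appTop.hom T)) :
    φ = ψ := by
  apply sq.hom_ext _ h
  apply hA.uniq
  · rw [Category.assoc, Category.assoc, sq.w, ← Category.assoc, h, Category.assoc]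
  · intro _
    rw [comp_app, comp_app, h2]

theorem isIso_auto (hA : Rep aA (fun _ : Unit => T) PTrue) (sq : IsPullback p q aA aD) (v : Γ(D, ⊤)ˣ)
    (φ : ZD ⟶ ZD) (h1 : φ ≫ q = q)
    (h2 : φ.appTop.hom (p.appTop.hom T) = p.appTop.hom T * q.appTop.hom (v : Γ(D, ⊤))) : IsIso φ := by
  obtain ⟨ψ, h3, h4⟩ := exists_auto hA sq ((v⁻¹ : Γ(D, ⊤)ˣ) : Γ(D, ⊤))
  have e1 : ∀ x, φ.appTop.hom (q.appTop.hom x) = q.appTop.hom x := fun x => by rw [← comp_app, h1]
  have e2 : ∀ x, ψ.appTop.hom (q.appTop.hom x) = q.appTop.hom x := fun x => by rw [← comp_app, h3]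
  refine ⟨ψ, auto_ext hA sq ?_ ?_, auto_ext hA sq ?_ ?_⟩
  · rw [Category.assoc, h3, h1, Category.id_comp]
  · rw [comp_app, h4, map_mul, h2, e1, mul_assoc, ← map_mul, Units.mul_inv, map_one, mul_one, Scheme.Hom.id_appTop]
    rfl
  · rw [Category.assoc, h1, h3, Category.id_comp]
  · rw [comp_app, h2, map_mul, h4, e2, mul_assoc, ← map_mul, Units.inv_mul, map_one, mul_one, Scheme.Hom.id_appTop]
    rfl

/-- Twisting the first projection by a unit. -/
theorem isPullback_twist (hA : Rep aA (fun _ : Unit => T) PTrue) (sq : IsPullback p q aA aD) (v : Γ(D, ⊤)ˣ)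
    (r : ZD ⟶ A₁) (hr : r ≫ aA = p ≫ aA) (h2 : r.appTop.hom T = p.appTop.hom T * q.appTop.hom (v : Γ(D, ⊤))) :
    IsPullback r q aA aD := by
  have h1 : sq.lift r q (by rw [hr, sq.w]) ≫ q = q := sq.lift_snd _ _ _
  have h3 : sq.lift r q (by rw [hr, sq.w]) ≫ p = r := sq.lift_fst _ _ _
  have : IsIso (sq.lift r q (by rw [hr, sq.w])) := by
    refine isIso_auto hA sq v _ h1 ?_
    rw [← comp_app, h3, h2]
  have h4 : IsPullback (sq.lift r q (by rw [hr, sq.w])) q q (𝟙 D) :=
    IsPullback.of_horiz_isIso ⟨by rw [h1, Category.comp_id]⟩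
  have h5 := h4.paste_horiz sq
  rwa [h3, Category.id_comp] at h5

/-- The twisted projection exists. -/
theorem exists_r1 (hA : Rep aA (fun _ : Unit => T) PTrue) (sq : IsPullback p q aA aD) (v : Γ(D, ⊤)ˣ) :
    ∃ r : ZD ⟶ A₁, IsPullback r q aA aD ∧ r.appTop.hom T = p.appTop.hom T * q.appTop.hom (v : Γ(D, ⊤)) := by
  obtain ⟨r, h1, h2⟩ := hA.lift ZD (p ≫ aA) (fun _ => p.appTop.hom T * q.appTop.hom (v : Γ(D, ⊤))) trivial
  exact ⟨r, isPullback_twist hA sq v r h1 (h2 ()), h2 ()⟩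

end Twist

section Parts

variable {S A₁ Z : Scheme.{u}} {R : Type u} [CommRing R] (s : R) {aA : A₁ ⟶ S} {a : Spec (CommRingCat.of R) ⟶ S}
  {p1 : Z ⟶ A₁} {p2 : Z ⟶ Spec (CommRingCat.of R)} (sq : IsPullback p1 p2 aA a)

/-- `V(s)`. -/
noncomputable abbrev YS (s : R) : Scheme.{u} := Spec (CommRingCat.of (R ⧸ Ideal.span {s}))

/-- The inclusion of `V(s)`. -/
noncomputable abbrev iS (s : R) : YS s ⟶ Spec (CommRingCat.of R) :=
  Spec.map (CommRingCat.ofHom (Ideal.Quotient.mk (Ideal.span {s})))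

instance isClosedImmersion_iS : IsClosedImmersion (iS s) :=
  IsClosedImmersion.spec_of_surjective _ Ideal.Quotient.mk_surjective

/-- `D(s)`. -/
noncomputable abbrev DS (s : R) : Scheme.{u} := Spec (CommRingCat.of (Localization.Away s))

/-- The inclusion of `D(s)`. -/
noncomputable abbrev oS (s : R) : DS s ⟶ Spec (CommRingCat.of R) :=
  Spec.map (CommRingCat.ofHom (algebraMap R (Localization.Away s)))

instance isOpenImmersion_oS : IsOpenImmersion (oS s) := inferInstance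

theorem range_iS : Set.range (iS s) = PrimeSpectrum.zeroLocus {s} := by
  refine (range_comap_of_surjective (R ⧸ Ideal.span {s}) (Ideal.Quotient.mk (Ideal.span {s}))
    Ideal.Quotient.mk_surjective).trans ?_
  rw [Ideal.mk_ker, PrimeSpectrum.zeroLocus_span]

theorem range_oS : Set.range (oS s) = (PrimeSpectrum.basicOpen s : Set (PrimeSpectrum R)) :=
  PrimeSpectrum.localization_away_comap_range _ s

theorem range_compl : Set.range (oS s) = (Set.range (iS s))ᶜ := by
  rw [range_iS, range_oS]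
  exact PrimeSpectrum.basicOpen_eq_zeroLocus_compl s

theorem iS_app : (iS s).appTop.hom (sp s) = 0 := by
  rw [appTop_sp, Ideal.Quotient.eq_zero_iff_mem.2 (Ideal.mem_span_singleton_self s)]
  exact map_zero _

theorem isUnit_oS : IsUnit ((oS s).appTop.hom (sp s)) := by
  rw [appTop_sp]
  exact (IsLocalization.Away.algebraMap_isUnit s).map _

include sq in
/-- `Z ×_X V(s)` is `A₁ × V(s)`. -/
theorem isPullback_Y : IsPullback (pullback.fst p2 (iS s) ≫ p1) (pullback.snd p2 (iS s)) aA (iS s ≫ a) :=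
  (IsPullback.of_hasPullback p2 (iS s)).paste_horiz sq

include sq in
/-- `Z ×_X D(s)` is `A₁ × D(s)`. -/
theorem isPullback_D : IsPullback (pullback.fst p2 (oS s) ≫ p1) (pullback.snd p2 (oS s)) aA (oS s ≫ a) :=
  (IsPullback.of_hasPullback p2 (oS s)).paste_horiz sq

/-- The two parts of `Z` are complementary. -/
theorem range_D : Set.range (pullback.fst p2 (oS s)) = (Set.range (pullback.fst p2 (iS s)))ᶜ := by
  rw [Scheme.Pullback.range_fst, Scheme.Pullback.range_fst, range_compl, Set.preimage_compl]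

include sq in
/-- The twisted projection of `A₁ × D(s)`. -/
theorem exists_twist {T : Γ(A₁, ⊤)} (hA : Rep aA (fun _ : Unit => T) PTrue) :
    ∃ r : pullback p2 (oS s) ⟶ A₁, IsPullback r (pullback.snd p2 (oS s)) aA (oS s ≫ a) ∧
      r.appTop.hom T = (pullback.fst p2 (oS s)).appTop.hom (p1.appTop.hom T * p2.appTop.hom (sp s)) := by
  obtain ⟨v, hv⟩ := isUnit_oS s
  obtain ⟨r, h1, h2⟩ := exists_r1 hA (isPullback_D s sq) v
  refine ⟨r, h1, ?_⟩
  have e := app_congr (pullback.condition (f := p2) (g := oS s)) (sp s)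
  rw [comp_app, comp_app] at e
  rw [h2, hv, map_mul, comp_app, e]

end Parts

end Groth.Agent.Sga4h.H768.SigHalf
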